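import Mathlib

/-!
# Degree-zero localizations commute with base change
-/

noncomputable section

universe u

open HomogeneousLocalization TensorProduct

namespace Groth.Agent.ProjBCGen

variable {R R' A B τA τB : Type u} [CommRing R] [CommRing R'] [CommRing A] [CommRing B]
  [SetLike τA A] [AddSubgroupClass τA A] [SetLike τB B] [AddSubgroupClass τB B]
  {𝒜 : ℕ → τA} [GradedRing 𝒜] {ℬ : ℕ → τB} [GradedRing ℬ]

/-- scalars in degree zero, into a homogeneous localization -/
def baseHom (a : R →+* A) (ha : ∀ r, a r ∈ 𝒜 0) (f : A) : R →+* Away 𝒜 f :=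
  (fromZeroRingHom 𝒜 (Submonoid.powers f)).comp (a.codRestrict (SetLike.GradeZero.subring 𝒜) ha)

theorem val_baseHom (a : R →+* A) (ha : ∀ r, a r ∈ 𝒜 0) (f : A) (r : R) :
    (baseHom a ha f r).val = Localization.mk (a r) 1 := rfl

theorem proj_mul_right {i : ℕ} {c : A} (hc : c ∈ 𝒜 i) (x : A) (n : ℕ) :
    GradedRing.proj 𝒜 (i + n) (c * x) = c * GradedRing.proj 𝒜 n x := by
  rw [GradedRing.proj_apply, GradedRing.proj_apply]
  exact DirectSum.coe_decompose_mul_add_of_left_mem 𝒜 hc

theorem isPushout_away (a : R →+* A) (ha : ∀ r, a r ∈ 𝒜 0) (b : R' →+* B) (hb : ∀ r, b r ∈ ℬ 0)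
    (σ : R →+* R') (ψ : 𝒜 →+*ᵍ ℬ) (hsq : ∀ r, b (σ r) = ψ (a r))
    (hpo : CategoryTheory.IsPushout (CommRingCat.ofHom σ) (CommRingCat.ofHom a) (CommRingCat.ofHom b)
      (CommRingCat.ofHom (RingHomClass.toRingHom ψ)))
    {d : ℕ} {f : A} (hf : f ∈ 𝒜 d) :
    CategoryTheory.IsPushout (CommRingCat.ofHom σ) (CommRingCat.ofHom (baseHom a ha f))
      (CommRingCat.ofHom (baseHom b hb (ψ f))) (CommRingCat.ofHom (Away.map ψ f)) := by
  letI := a.toAlgebra
  letI := σ.toAlgebra
  letI := b.toAlgebra
  letI := (RingHomClass.toRingHom ψ).toAlgebra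
  letI := (b.comp σ).toAlgebra
  haveI : IsScalarTower R R' B := .of_algebraMap_eq fun _ => rfl
  haveI : IsScalarTower R A B := .of_algebraMap_eq fun r => hsq r
  have hB : Algebra.IsPushout R R' A B := CommRingCat.isPushout_iff_isPushout.1 hpo
  have hbc : IsBaseChange R' (IsScalarTower.toAlgHom R A B).toLinearMap := hB.out
  let θ := hbc.equiv
  have hθ : ∀ r x, θ (r ⊗ₜ[R] x) = b r * ψ x := fun r x =>
    (hbc.equiv_tmul r x).trans (Algebra.smul_def r _)
  letI := (baseHom a ha f).toAlgebra
  letI := (baseHom b hb (ψ f)).toAlgebra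
  letI := (Away.map ψ f).toAlgebra
  letI := ((baseHom b hb (ψ f)).comp σ).toAlgebra
  haveI : IsScalarTower R R' (Away ℬ (ψ f)) := .of_algebraMap_eq fun _ => rfl
  have hsq' : ∀ r, baseHom b hb (ψ f) (σ r) = Away.map ψ f (baseHom a ha f r) := by
    intro r
    have h0 : a r ∈ 𝒜 (0 • d) := by rw [zero_smul]; exact ha r
    have e : baseHom a ha f r = Away.mk 𝒜 hf 0 (a r) h0 := by
      refine val_injective _ ?_
      rw [Away.val_mk, val_baseHom]
      congr 1
      exact Subtype.ext (pow_zero f).symm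
    refine val_injective _ ?_
    rw [e, Away.map_mk, Away.val_mk, val_baseHom, hsq]
    congr 1
    exact Subtype.ext (pow_zero (ψ f)).symm
  haveI : IsScalarTower R (Away 𝒜 f) (Away ℬ (ψ f)) := .of_algebraMap_eq fun r => hsq' r
  refine CommRingCat.isPushout_iff_isPushout.2 ⟨?_⟩
  let l := (IsScalarTower.toAlgHom R (Away 𝒜 f) (Away ℬ (ψ f))).toLinearMap
  let Φ := l.liftBaseChange R'
  suffices hΦ : Function.Bijective Φ from
    IsBaseChange.of_equiv (LinearEquiv.ofBijective Φ hΦ) fun x => by
      show Φ _ = _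
      rw [LinearMap.liftBaseChange_tmul, one_smul]
  -- homogeneous parts
  let P : ℕ → A →ₗ[R] A := fun n =>
    { toFun := GradedRing.proj 𝒜 n
      map_add' := map_add _
      map_smul' := fun r x => by
        show GradedRing.proj 𝒜 n (a r * x) = a r * GradedRing.proj 𝒜 n x
        simpa using proj_mul_right (ha r) x n }
  let μ : ℕ → A →ₗ[R] Away 𝒜 f := fun k =>
    { toFun := fun x => Away.mk 𝒜 hf k (P (k • d) x) (by
        show GradedRing.proj 𝒜 (k • d) x ∈ _
        rw [GradedRing.proj_apply]; exact SetLike.coe_mem _)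
      map_add' := fun x y => by
        refine val_injective _ ?_
        rw [HomogeneousLocalization.val_add, Away.val_mk, Away.val_mk, Away.val_mk, map_add,
          Localization.add_mk_self]
      map_smul' := fun r x => by
        refine val_injective _ ?_
        rw [RingHom.id_apply, Algebra.smul_def (R := R) (A := Away 𝒜 f), HomogeneousLocalization.val_mul, Away.val_mk, Away.val_mk]
        show _ = Localization.mk (a r) 1 * _
        rw [Localization.mk_mul, one_mul]
        congr 1
        exact (map_smul (P (k • d)) r x).trans (Algebra.smul_def r _) }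
  let fm : ℕ → A →ₗ[R] A := fun m => LinearMap.mulLeft R (f ^ m)
  have hfm : ∀ m n x, P (m • d + n) (fm m x) = fm m (P n x) := fun m n x =>
    proj_mul_right (SetLike.pow_mem_graded m hf) x n
  have hμfm : ∀ k m, μ (m + k) ∘ₗ fm m = μ k := by
    intro k m
    refine LinearMap.ext fun x => val_injective _ ?_
    show (Away.mk 𝒜 hf (m + k) (P ((m + k) • d) (fm m x)) _).val = (Away.mk 𝒜 hf k (P (k • d) x) _).val
    rw [Away.val_mk, Away.val_mk, Localization.mk_eq_mk_iff, Localization.r_iff_exists]
    refine ⟨1, ?_⟩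
    have : P ((m + k) • d) (fm m x) = f ^ m * P (k • d) x := by rw [add_smul]; exact hfm m (k • d) x
    simp only [this, OneMemClass.coe_one, one_mul, pow_add]
    ring
  have hμP : ∀ k, μ k ∘ₗ P (k • d) = μ k := by
    intro k
    refine LinearMap.ext fun x => val_injective _ ?_
    show (Away.mk 𝒜 hf k (P (k • d) (P (k • d) x)) _).val = (Away.mk 𝒜 hf k (P (k • d) x) _).val
    rw [Away.val_mk, Away.val_mk]
    congr 1
    show GradedRing.proj 𝒜 _ (GradedRing.proj 𝒜 _ x) = GradedRing.proj 𝒜 _ x
    rw [GradedRing.proj_apply 𝒜 (k • d) (GradedRing.proj 𝒜 _ x)]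
    exact DirectSum.decompose_of_mem_same _ (by rw [GradedRing.proj_apply]; exact SetLike.coe_mem _)
  let μ' := fun k => (μ k).baseChange R'
  let P' := fun n => (P n).baseChange R'
  let fm' := fun m => (fm m).baseChange R'
  have hbd : ∀ (n : ℕ) (y : R' ⊗[R] A), GradedRing.proj ℬ n (θ y) = θ (P' n y) := by
    intro n y
    induction y using TensorProduct.induction_on with
    | zero => simp
    | tmul r x =>
      show _ = θ (r ⊗ₜ[R] P n x)
      rw [hθ, hθ]
      have h1 := proj_mul_right (hb r) (ψ x) n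
      rw [zero_add] at h1
      rw [h1]
      congr 1
      exact (GradedRingHom.map_directSumDecompose (𝒜 := 𝒜) (ℬ := ℬ) ψ (x := x) (i := n)).symm
    | add y z hy hz => rw [map_add, map_add, map_add, map_add, hy, hz]
  have hθfm : ∀ m (y : R' ⊗[R] A), θ (fm' m y) = ψ f ^ m * θ y := by
    intro m y
    induction y using TensorProduct.induction_on with
    | zero => simp
    | tmul r x =>
      show θ (r ⊗ₜ[R] (f ^ m * x)) = _
      rw [hθ, hθ, map_mul, map_pow, mul_left_comm]
    | add y z hy hz => rw [map_add, map_add, map_add, hy, hz, mul_add]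
  have hval : ∀ k y, (Φ (μ' k y)).val =
      Localization.mk (θ (P' (k • d) y)) (⟨ψ f ^ k, k, rfl⟩ : Submonoid.powers (ψ f)) := by
    intro k y
    induction y using TensorProduct.induction_on with
    | zero => simp [Localization.mk_zero]
    | tmul r x =>
      show (Φ (r ⊗ₜ[R] μ k x)).val = Localization.mk (θ (r ⊗ₜ[R] P (k • d) x)) _
      rw [LinearMap.liftBaseChange_tmul, hθ, Algebra.smul_def, HomogeneousLocalization.val_mul]
      show Localization.mk (b r) 1 * (Away.map ψ f (Away.mk 𝒜 hf k _ _)).val = _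
      rw [Away.map_mk, Away.val_mk, Localization.mk_mul, one_mul]
    | add y z hy hz => rw [map_add, map_add, HomogeneousLocalization.val_add, hy, hz, map_add, map_add,
        Localization.add_mk_self]
  have hrep : ∀ x, ∃ k y, x = μ' k y := by
    intro x
    induction x using TensorProduct.induction_on with
    | zero => exact ⟨0, 0, (map_zero _).symm⟩
    | tmul r q =>
      obtain ⟨k, c, hc, rfl⟩ := Away.mk_surjective 𝒜 hf q
      refine ⟨k, r ⊗ₜ[R] c, ?_⟩
      show _ = r ⊗ₜ[R] μ k c
      congr 1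
      refine val_injective _ ?_
      show _ = (Away.mk 𝒜 hf k (P (k • d) c) _).val
      rw [Away.val_mk, Away.val_mk]
      congr 1
      exact ((GradedRing.proj_apply 𝒜 (k • d) c).trans (DirectSum.decompose_of_mem_same _ hc)).symm
    | add x z hx hz =>
      obtain ⟨k, y, rfl⟩ := hx
      obtain ⟨l, w, rfl⟩ := hz
      refine ⟨l + k, fm' l y + fm' k w, ?_⟩
      have e1 : μ' (l + k) (fm' l y) = μ' k y :=
        (LinearMap.comp_apply _ _ _).symm.trans (by rw [← LinearMap.baseChange_comp, hμfm])
      have e2 : μ' (l + k) (fm' k w) = μ' l w := by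
        rw [add_comm l k]
        exact (LinearMap.comp_apply _ _ _).symm.trans (by rw [← LinearMap.baseChange_comp, hμfm])
      rw [map_add, e1, e2]
  constructor
  · rw [injective_iff_map_eq_zero]
    intro x hx
    obtain ⟨k, y, rfl⟩ := hrep x
    have h1 := hval k y
    rw [hx, HomogeneousLocalization.val_zero] at h1
    rw [Localization.mk_eq_mk', eq_comm, IsLocalization.mk'_eq_zero_iff] at h1
    obtain ⟨⟨_, m, rfl⟩, hm⟩ := h1
    have h2 : fm' m (P' (k • d) y) = 0 := θ.injective (by rw [hθfm, map_zero]; exact hm)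
    have h3 : μ' (m + k) (fm' m (P' (k • d) y)) = μ' k y := by
      have : (μ (m + k) ∘ₗ fm m) ∘ₗ P (k • d) = μ k := by rw [hμfm, hμP]
      have h4 := congrArg (fun L => LinearMap.baseChange R' L y) this
      rw [LinearMap.baseChange_comp, LinearMap.baseChange_comp] at h4
      exact h4
    rw [← h3, h2, map_zero]
  · intro q
    obtain ⟨k, c, hc, rfl⟩ := Away.mk_surjective ℬ (ψ.map_mem hf) q
    obtain ⟨y, rfl⟩ := θ.surjective c
    refine ⟨μ' k y, val_injective _ ?_⟩
    rw [hval, Away.val_mk]
    congr 1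
    rw [← hbd]
    exact (GradedRing.proj_apply ℬ (k • d) (θ y)).trans (DirectSum.decompose_of_mem_same _ hc)

end Groth.Agent.ProjBCGen
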