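import Mathlib
import Groth.Agent.ProjBCGen.Ring
import Groth.Agent.EGA2Misc.RelProjMap

/-! `Proj` commutes with base change. -/

noncomputable section

universe u

open CategoryTheory CategoryTheory.Limits AlgebraicGeometry TopologicalSpace Opposite HomogeneousLocalization
open scoped HomogeneousIdeal

namespace Groth.Agent.ProjBCGen

variable {R R' A B τA τB : Type u} [CommRing R] [CommRing R'] [CommRing A] [CommRing B]
  [SetLike τA A] [AddSubgroupClass τA A] [SetLike τB B] [AddSubgroupClass τB B]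
  {𝒜 : ℕ → τA} [GradedRing 𝒜] {ℬ : ℕ → τB} [GradedRing ℬ]
  (a : R →+* A) (ha : ∀ r, a r ∈ 𝒜 0) (b : R' →+* B) (hb : ∀ r, b r ∈ ℬ 0) (σ : R →+* R')
  (ψ : 𝒜 →+*ᵍ ℬ) (hψ : ℬ₊ ≤ (𝒜₊).map ψ) (hsq : ∀ r, b (σ r) = ψ (a r))

/-- the structure map to the base -/
def toBase : Proj 𝒜 ⟶ Spec (CommRingCat.of R) :=
  Proj.toSpecZero 𝒜 ≫ Spec.map (CommRingCat.ofHom (a.codRestrict (SetLike.GradeZero.subring 𝒜) ha) :
    CommRingCat.of R ⟶ CommRingCat.of (𝒜 0))

theorem awayι_toBase {d : ℕ} (hd : 0 < d) {s : A} (hs : s ∈ 𝒜 d) :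
    Proj.awayι 𝒜 s hs hd ≫ toBase a ha = Spec.map (CommRingCat.ofHom (baseHom a ha s)) := by
  rw [toBase, Proj.awayι_toSpecZero_assoc, ← Spec.map_comp]
  rfl

include hsq in
theorem projMap_toBase :
    Proj.map ψ hψ ≫ toBase a ha = toBase b hb ≫ Spec.map (CommRingCat.ofHom σ) := by
  rw [toBase, toBase, ← Category.assoc, EGA2Misc.map_toSpecZero, Category.assoc, Category.assoc,
    ← Spec.map_comp, ← Spec.map_comp]
  congr 2
  refine CommRingCat.hom_ext (RingHom.ext fun r => Subtype.ext ?_)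
  exact (hsq r).symm

include hsq in
theorem isPullback_projMap
    (hpo : CategoryTheory.IsPushout (CommRingCat.ofHom σ) (CommRingCat.ofHom a) (CommRingCat.ofHom b)
      (CommRingCat.ofHom (RingHomClass.toRingHom ψ))) :
    IsPullback (Proj.map ψ hψ) (toBase b hb) (toBase a ha) (Spec.map (CommRingCat.ofHom σ)) := by
  have hsq0 := projMap_toBase a ha b hb σ ψ hψ hsq
  let c : Proj ℬ ⟶ pullback (toBase a ha) (Spec.map (CommRingCat.ofHom σ)) := pullback.lift _ _ hsq0
  suffices IsIso c from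
    IsPullback.of_iso_pullback ⟨hsq0⟩ (asIso c) (pullback.lift_fst _ _ _) (pullback.lift_snd _ _ _)
  let O : (Σ i : PNat, 𝒜 i) → (pullback (toBase a ha) (Spec.map (CommRingCat.ofHom σ))).Opens := fun i =>
    pullback.fst (toBase a ha) (Spec.map (CommRingCat.ofHom σ)) ⁻¹ᵁ Proj.basicOpen 𝒜 (i.2 : A)
  have hO : ⨆ i, O i = ⊤ := by
    simp only [O, ← Scheme.Hom.preimage_iSup]
    rw [EGA2Misc.iSup_basicOpen_pos]
    rfl
  refine IsZariskiLocalAtTarget.of_iSup_eq_top (P := MorphismProperty.isomorphisms Scheme) O hO fun i => ?_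
  obtain ⟨⟨d, hd⟩, s, hs⟩ := i
  have hp : IsPullback (Spec.map (CommRingCat.ofHom (Away.map ψ s)))
      (Spec.map (CommRingCat.ofHom (baseHom b hb (ψ s)))) (Spec.map (CommRingCat.ofHom (baseHom a ha s)))
      (Spec.map (CommRingCat.ofHom σ)) :=
    (isPullback_SpecMap_of_isPushout _ _ _ _ (isPushout_away a ha b hb σ ψ hsq hpo hs)).flip
  let k := Proj.awayι 𝒜 s hs hd
  let m := pullback.map (Spec.map (CommRingCat.ofHom (baseHom a ha s))) (Spec.map (CommRingCat.ofHom σ))
    (toBase a ha) (Spec.map (CommRingCat.ofHom σ)) k (𝟙 _) (𝟙 _)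
    (by rw [Category.comp_id, awayι_toBase]) (by rw [Category.comp_id, Category.id_comp])
  let γ := hp.isoPullback.hom ≫ m
  let aE := Proj.awayι ℬ (ψ s) (ψ.map_mem hs) hd
  have hγ : aE ≫ c = γ := by
    refine pullback.hom_ext ?_ ?_
    · simp only [γ, m, c, aE, pullback.map, Category.assoc, pullback.lift_fst]
      rw [IsPullback.isoPullback_hom_fst_assoc]
      exact Proj.awayι_comp_map ψ hψ hd s hs
    · simp only [γ, m, c, aE, pullback.map, Category.assoc, pullback.lift_snd, Category.comp_id]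
      rw [IsPullback.isoPullback_hom_snd, awayι_toBase]
  let W₀ := pullback.fst (toBase a ha) (Spec.map (CommRingCat.ofHom σ)) ⁻¹ᵁ Proj.basicOpen 𝒜 s
  haveI hoi : IsOpenImmersion γ := by simp only [γ, m]; infer_instance
  have hrange : γ.opensRange = W₀ := by
    show (hp.isoPullback.hom ≫ m).opensRange = W₀
    rw [Scheme.Hom.opensRange_comp_of_isIso]
    refine TopologicalSpace.Opens.ext ?_
    show Set.range m = _
    rw [Scheme.Pullback.range_map]
    have hk : k.opensRange = Proj.basicOpen 𝒜 s := Proj.opensRange_awayι ..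
    show pullback.fst (toBase a ha) (Spec.map (CommRingCat.ofHom σ)) ⁻¹' (k.opensRange : Set (Proj 𝒜)) ∩ _ = _
    rw [hk]
    simp [W₀]
  have hpre : aE.opensRange = c ⁻¹ᵁ W₀ := by
    rw [← Scheme.Hom.comp_preimage, pullback.lift_fst, Proj.map_preimage_basicOpen]
    exact Proj.opensRange_awayι ..
  let e := aE.isoOpensRange ≪≫ Scheme.isoOfEq _ hpre
  let α := γ.isoOpensRange ≪≫ Scheme.isoOfEq _ hrange
  refine (MorphismProperty.cancel_left_of_respectsIso (MorphismProperty.isomorphisms Scheme) e.hom _).1 ?_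
  have h1 : e.hom ≫ c ∣_ W₀ = α.hom := by
    rw [← cancel_mono W₀.ι, Category.assoc, morphismRestrict_ι]
    simp only [e, α, Iso.trans_hom, Category.assoc]
    refine ((congrArg (aE.isoOpensRange.hom ≫ ·) (Scheme.isoOfEq_hom_ι_assoc _ _ _)).trans
      (Scheme.Hom.isoOpensRange_hom_ι_assoc _ _)).trans ?_
    rw [Scheme.isoOfEq_hom_ι, Scheme.Hom.isoOpensRange_hom_ι, hγ]
  rw [h1]
  exact (inferInstance : IsIso α.hom)

end Groth.Agent.ProjBCGen
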